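import Cfsg.Agent.Sig2.Basic
import Cfsg.Agent.Gold.Tools
import Cfsg.Agent.GHB.Basic

/-! Groups without elementary abelian subgroups of order sixteen. -/

set_option autoImplicit false
set_option linter.unusedSectionVars false

namespace Cfsg.Lib.R3C

open Subgroup Cfsg.Lib.Trans Cfsg.Lib.Gold Cfsg.Lib.Sig2

variable {G : Type*} [Group G]

/-- No elementary abelian subgroup of order sixteen. -/
def R3 (G : Type*) [Group G] : Prop := ∀ A : Subgroup G, El A → Nat.card A ≤ 8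

/-- There is an elementary abelian subgroup of order eight. -/
def H3 (G : Type*) [Group G] : Prop := ∃ A : Subgroup G, E8 A

theorem r3_iff : R3 G ↔ PRankLE 2 3 G :=
  ⟨fun h A _ h2 => h A fun a ha => sq a ▸ h2 a ha,
    fun h A hA => h A hA.isMulCommutative fun a ha => (sq a).symm ▸ hA a ha⟩

theorem h3_of_not [Finite G] (h : ¬ PRankLE 2 2 G) : H3 G := by
  obtain ⟨A, -, hA⟩ := exists_E8_of_not_pRankLE (G := G) (H := ⊤) fun k => h fun A h1 h2 => by
    have := k (A.subgroupOf ⊤) inferInstance fun a ha => Subtype.ext (h2 a ha)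
    rwa [Nat.card_congr (subgroupOfEquivOfLe le_top).toEquiv] at this
  exact ⟨A, hA⟩

theorem H3.not_rank (h : H3 G) : ¬ PRankLE 2 2 G := fun k => by
  obtain ⟨A, h1, h2⟩ := h
  have := k A h1.isMulCommutative fun a ha => (sq a).symm ▸ h1 a ha
  omega

theorem el_map {G' : Type*} [Group G'] (f : G →* G') {A : Subgroup G} (h : El A) :
    El (A.map f) := by
  rintro _ ⟨a, ha, rfl⟩
  rw [← map_mul, h a ha, map_one]

theorem R3.of_inj {G' : Type*} [Group G'] (h : R3 G') (f : G →* G') (hf : Function.Injective f) :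
    R3 G := fun _ hA => card_map_of_injective hf ▸ h _ (el_map f hA)

theorem H3.of_inj {G' : Type*} [Group G'] (h : H3 G) (f : G →* G') (hf : Function.Injective f) :
    H3 G' :=
  let ⟨A, h1, h2⟩ := h
  ⟨A.map f, el_map f h1, by rwa [card_map_of_injective hf]⟩

theorem el_adj {A : Subgroup G} {t : G} (hA : El A) (ht : t * t = 1)
    (hc : ∀ a ∈ A, t * a = a * t) : El (A ⊔ zpowers t) :=
  hA.sup (El.zpowers ht) (by
    rintro a ha _ ⟨k, rfl⟩
    exact (show Commute a t from (hc a ha).symm).zpow_right k)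

theorem card_adj {A : Subgroup G} {t : G} (ht : t * t = 1) (hc : ∀ a ∈ A, t * a = a * t)
    (hn : t ∉ A) : Nat.card (A ⊔ zpowers t : Subgroup G) = 2 * Nat.card A :=
  GHB.card_adj (fun b hb => by rw [hc b hb, mul_inv_cancel_right]; exact hb)
    (ht ▸ one_mem _) hn

theorem mem_adj {A : Subgroup G} {t x : G} (ht : t * t = 1) (hc : ∀ a ∈ A, t * a = a * t) :
    x ∈ A ⊔ zpowers t ↔ x ∈ A ∨ x * t ∈ A := by
  refine ⟨fun hx => ?_, fun hx => hx.elim mem_sup_left fun h => ?_⟩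
  · have hn : zpowers t ≤ Ns A := zpowers_le.2 (centralizer_le_normalizer _ fun a ha =>
      (hc a ha).symm)
    have hx' : x ∈ ((A ⊔ zpowers t : Subgroup G) : Set G) := hx
    rw [coe_mul_of_right_le_normalizer_left _ _ hn] at hx'
    obtain ⟨a, ha, b, hb, rfl⟩ := hx'
    rcases mem_zpowers_of_mul_self ht hb with rfl | rfl
    · exact .inl (by simpa using ha)
    · exact .inr (by simpa [mul_assoc, ht] using ha)
  · have := mul_mem (mem_sup_left h : _ ∈ A ⊔ zpowers t) (mem_sup_right (mem_zpowers t))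
    rwa [mul_assoc, ht, mul_one] at this

variable [Finite G]

theorem R3.mem (h : R3 G) {E : Subgroup G} (hE : E8 E) {t : G} (ht : t * t = 1)
    (hc : ∀ e ∈ E, t * e = e * t) : t ∈ E := by
  by_contra hn
  have h1 := h _ (el_adj hE.1 ht hc)
  have h2 := hE.2
  rw [card_adj ht hc hn] at h1
  omega

theorem R3.card (h : R3 G) {E : Subgroup G} (hE : E8 E) : Nat.card E = 8 :=
  le_antisymm (h E hE.1) hE.2

theorem R3.le (h : R3 G) {E A : Subgroup G} (hE : E8 E) (hA : El A)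
    (hc : ∀ a ∈ A, ∀ e ∈ E, a * e = e * a) : A ≤ E := fun a ha => h.mem hE (hA a ha) (hc a ha)

theorem e8_adj {A : Subgroup G} {t : G} (hA : E4 A) (ht : t * t = 1)
    (hc : ∀ a ∈ A, t * a = a * t) (hn : t ∉ A) : E8 (A ⊔ zpowers t) :=
  ⟨el_adj hA.1 ht hc, by rw [card_adj ht hc hn]; have := hA.2; omega⟩

/-- Two commuting four-groups meet. -/
theorem R3.not_disj (h : R3 G) {A B : Subgroup G} (hA : E4 A) (hB : E4 B)
    (hc : ∀ a ∈ A, ∀ b ∈ B, a * b = b * a) (hd : ∀ x ∈ A, x ∈ B → x = 1) : False := by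
  obtain ⟨x, hx, y, hy, x1, y1, xy⟩ := hB.exists_pair
  have c : ∀ b ∈ B, ∀ a ∈ A, b * a = a * b := fun b hb a ha => (hc a ha b hb).symm
  have h1 := e8_adj hA (hB.1 x hx) (c x hx) fun k => x1 (hd x k hx)
  have h2 := h.mem h1 (hB.1 y hy) fun e he => by
    rcases (mem_adj (hB.1 x hx) (c x hx)).1 he with k | k
    · exact c y hy e k
    · have := c y hy _ k
      rw [← mul_assoc, mul_assoc e, hB.1.comm hx hy, ← mul_assoc] at this
      exact mul_right_cancel this
  rcases (mem_adj (hB.1 x hx) (c x hx)).1 h2 with k | k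
  · exact y1 (hd y k hy)
  · exact xy (by rw [← hB.1.inv_eq hx, inv_eq_of_mul_eq_one_left (hd _ k (mul_mem hy hx))])

omit [Finite G] in
theorem el_bot : El (⊥ : Subgroup G) := fun a ha => by rw [mem_bot.1 ha, one_mul]

theorem card_le_two_of_cyc {E : Subgroup G} {r : G} (hE : El E) (h : E ≤ zpowers r) :
    Nat.card E ≤ 2 :=
  card_le_of_le_isCyclic (p := 2) (C := zpowers r) (fun e he => (sq e).symm ▸ hE e he) h

theorem not_h3_of_cyc {T : Subgroup G} (hT : IsSylowIn 2 T ⊤) {r : G}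
    (h : ∀ x ∈ T, ∀ y ∈ T, x ∉ zpowers r → y ∉ zpowers r → x * y ∈ zpowers r) : ¬ H3 G := by
  rintro ⟨A, hA⟩
  obtain ⟨g, -, k⟩ := hT.exists_cj_le hA.1.isPGroup le_top
  replace hA := hA.cj g
  generalize cj g A = E at hA k
  have h1 := card_le_two_of_cyc (hA.1.mono (inf_le_left : E ⊓ zpowers r ≤ E)) inf_le_right
  have h2 := hA.2
  by_cases c : E ≤ zpowers r
  · rw [inf_eq_left.2 c] at h1
    omega
  obtain ⟨x, hx, hx'⟩ := SetLike.not_le_iff_exists.1 c
  have c' : ∀ a ∈ E ⊓ zpowers r, x * a = a * x := fun a ha => hA.1.comm hx ha.1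
  have h3 := Trans.card_le_of_le (show E ≤ E ⊓ zpowers r ⊔ zpowers x from fun y hy =>
    (mem_adj (hA.1 x hx) c').2 (by
      by_cases e : y ∈ zpowers r
      · exact .inl ⟨hy, e⟩
      · exact .inr ⟨mul_mem hy hx, h y (k hy) x (k hx) e hx'⟩))
  rw [card_adj (hA.1 x hx) c' fun e => hx' e.2] at h3
  omega

theorem not_h3_of_order {r : G} {k : ℕ} (hr : orderOf r = 2 ^ k)
    (h : ¬ 2 ^ (k + 2) ∣ Nat.card G) : ¬ H3 G := by
  obtain ⟨T, hT, k1⟩ := exists_isSylowIn_ge (p := 2) (Q := zpowers r) (H := ⊤)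
    (IsPGroup.of_card (by rw [Nat.card_zpowers, hr])) le_top
  obtain ⟨n, hn⟩ := IsPGroup.iff_card.1 hT.isPGroup
  have h1 := card_mul_relIndex k1
  have h2 : n ≤ k + 1 := by
    by_contra c
    exact h ((pow_dvd_pow 2 (by omega)).trans (hn ▸ card_subgroup_dvd_card T))
  rw [Nat.card_zpowers, hr, hn] at h1
  have h3 : (zpowers r).relIndex T ∣ 2 := Nat.dvd_of_mul_dvd_mul_left (Nat.two_pow_pos k)
    (by rw [h1, ← pow_succ]; exact pow_dvd_pow 2 h2)
  refine not_h3_of_cyc hT (r := r) fun x hx y hy a b => ?_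
  rcases (Nat.dvd_prime Nat.prime_two).1 h3 with e | e
  · exact absurd (relIndex_eq_one.1 e hx) a
  · exact (mul_mem_iff_of_index_two (a := ⟨x, hx⟩) (b := ⟨y, hy⟩) e).2 (iff_of_false a b)

theorem H3.eight_dvd (h : H3 G) : 8 ∣ Nat.card G := by
  obtain ⟨A, h1, h2⟩ := h
  obtain ⟨n, hn⟩ := IsPGroup.iff_card.1 h1.isPGroup
  refine (show 2 ^ 3 ∣ Nat.card A from hn ▸ pow_dvd_pow 2 ?_).trans (card_subgroup_dvd_card A)
  by_contra c
  have := Nat.pow_le_pow_right two_pos (show n ≤ 2 by omega)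
  omega

theorem H3.lift {X : Type*} [Group X] [Finite X] (h : H3 G) (f : X →* G)
    (hf : Function.Surjective f) (ho : Odd (Nat.card f.ker)) : H3 X := by
  obtain ⟨A, h1, h2⟩ := h
  obtain ⟨P, hP⟩ := exists_isSylowIn (p := 2) (A.comap f)
  have h3 := hP.map f
  rw [map_comap_eq_self_of_surjective hf] at h3
  have h4 := h3.eq_of_le h1.isPGroup h3.le le_rfl
  have h5 : ∀ x ∈ P, f x = 1 → x = 1 := fun x hx e => by
    obtain ⟨k, hk⟩ := hP.isPGroup ⟨x, hx⟩
    have a := orderOf_dvd_of_pow_eq_one (show x ^ 2 ^ k = 1 from congrArg Subtype.val hk)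
    have b := Subgroup.orderOf_dvd_natCard f.ker e
    exact orderOf_eq_one_iff.1 ((Nat.coprime_self _).1 ((Nat.Coprime.pow_left k
      (Nat.coprime_two_left.2 ho)).of_dvd a b))
  refine ⟨P, fun x hx => h5 _ (mul_mem hx hx) (by rw [map_mul]; exact h1 _ (hP.le hx)), ?_⟩
  rw [h4] at h2
  exact h2.trans (Nat.le_of_dvd Nat.card_pos (card_map_dvd P f))

end Cfsg.Lib.R3C
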